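import Mathlib

/-!
# S5916 (`i = 1`): linear algebra over `F₂` by bit vectors (helper248)

Elements of a group `V` of exponent two are named by natural numbers: `ev n b y` is the sum of the `b i`, `i < n`, with
bit `i` of `y` set; `E w n g m` is the two-dimensional version.
-/

set_option autoImplicit false

namespace Cfsg.Agent.H248.L16

open Finset

section

variable {V : Type*} [AddCommGroup V]

/-- sum of the `b i`, `i < n`, `y.testBit i` -/
def ev (n : ℕ) (b : ℕ → V) (y : ℕ) : V := ∑ i ∈ range n, if y.testBit i then b i else 0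

theorem ev_xor (h2 : ∀ x : V, x + x = 0) (n : ℕ) (b : ℕ → V) (x y : ℕ) :
    ev n b (x ^^^ y) = ev n b x + ev n b y := by
  simp only [ev, ← Finset.sum_add_distrib]
  refine Finset.sum_congr rfl fun i _ => ?_
  rw [Nat.testBit_xor]
  cases x.testBit i <;> cases y.testBit i <;> simp [h2]

theorem ev_zero (n : ℕ) (b : ℕ → V) : ev n b 0 = 0 := by
  simp [ev]

theorem ev_one_shift (n : ℕ) (b : ℕ → V) {k : ℕ} (hk : k < n) : ev n b (1 <<< k) = b k := by
  rw [ev, Finset.sum_eq_single k]
  · simp
  · intro i _ hi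
    rw [if_neg]
    rw [Nat.testBit_shiftLeft]
    rcases lt_or_gt_of_ne hi with h | h
    · simp [show ¬ k ≤ i by omega]
    · have : (1 : ℕ).testBit (i - k) = false :=
        Nat.testBit_lt_two_pow (Nat.one_lt_two_pow (by omega))
      simp [this]
  · intro h
    exact absurd (Finset.mem_range.2 hk) h

/-- two-dimensional version -/
def E (w n : ℕ) (g : ℕ → ℕ → V) (m : ℕ) : V :=
  ∑ i ∈ range n, ∑ j ∈ range w, if m.testBit (w * i + j) then g i j else 0

theorem E_xor (h2 : ∀ x : V, x + x = 0) (w n : ℕ) (g : ℕ → ℕ → V) (x y : ℕ) :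
    E w n g (x ^^^ y) = E w n g x + E w n g y := by
  simp only [E, ← Finset.sum_add_distrib]
  refine Finset.sum_congr rfl fun i _ => Finset.sum_congr rfl fun j _ => ?_
  rw [Nat.testBit_xor]
  cases x.testBit (w * i + j) <;> cases y.testBit (w * i + j) <;> simp [h2]

theorem E_zero (w n : ℕ) (g : ℕ → ℕ → V) : E w n g 0 = 0 := by
  simp [E]

theorem testBit_of_lt' {y w k : ℕ} (hy : y < 2 ^ w) (hk : w ≤ k) : y.testBit k = false :=
  Nat.testBit_lt_two_pow (lt_of_lt_of_le hy (Nat.pow_le_pow_right (by norm_num) hk))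

theorem E_shift (w n : ℕ) (g : ℕ → ℕ → V) {y i : ℕ} (hy : y < 2 ^ w) (hi : i < n) :
    E w n g (y <<< (w * i)) = ev w (g i) y := by
  rw [E, Finset.sum_eq_single i]
  · refine Finset.sum_congr rfl fun j _ => ?_
    rw [Nat.testBit_shiftLeft]
    simp
  · intro k _ hk
    refine Finset.sum_eq_zero fun j hj => ?_
    rw [if_neg]
    rw [Nat.testBit_shiftLeft]
    have hj' := Finset.mem_range.1 hj
    rcases lt_or_gt_of_ne hk with h | h
    · have : w * (k + 1) ≤ w * i := Nat.mul_le_mul_left w h
      have h2 : ¬ w * i ≤ w * k + j := by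
        rw [Nat.mul_succ] at this
        omega
      simp [h2]
    · have : w * (i + 1) ≤ w * k := Nat.mul_le_mul_left w h
      rw [Nat.mul_succ] at this
      rw [testBit_of_lt' hy (by omega)]
      simp
  · intro h
    exact absurd (Finset.mem_range.2 hi) h

end

/-! ### kernel functions -/

/-- bit `k` of `x` -/
def bt (x k : ℕ) : Bool := Nat.beq (Nat.mod (Nat.shiftRight x k) 2) 1

theorem bt_eq (x k : ℕ) : bt x k = x.testBit k := by
  rw [bt, Nat.testBit_eq_decide_div_mod_eq]
  change Nat.beq (x >>> k % 2) 1 = _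
  rw [Nat.shiftRight_eq_div_pow]
  rcases Nat.mod_two_eq_zero_or_one (x / 2 ^ k) with h | h <;> rw [h] <;> rfl

/-- tensor product of bit vectors -/
def tens (w : ℕ) : ℕ → ℕ → ℕ → ℕ
  | 0, _, _ => 0
  | n + 1, x, y => bif bt x n then Nat.xor (tens w n x y) (Nat.shiftLeft y (w * n)) else tens w n x y

/-- xor of selected rows -/
def xs : List ℕ → ℕ → ℕ → ℕ
  | [], _, a => a
  | r :: l, m, a => bif Nat.beq (Nat.mod m 2) 1 then xs l (Nat.div m 2) (Nat.xor a r) else xs l (Nat.div m 2) a

theorem xs_mem {P : ℕ → Prop} (hx : ∀ a b, P a → P b → P (a ^^^ b)) :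
    ∀ (l : List ℕ) (m a : ℕ), (∀ r ∈ l, P r) → P a → P (xs l m a) := by
  intro l
  induction l with
  | nil => intro m a _ ha; exact ha
  | cons r l ih =>
    intro m a hl ha
    rw [xs]
    cases Nat.beq (Nat.mod m 2) 1 with
    | true => exact ih _ _ (fun s hs => hl s (List.mem_cons_of_mem _ hs)) (hx _ _ ha (hl r List.mem_cons_self))
    | false => exact ih _ _ (fun s hs => hl s (List.mem_cons_of_mem _ hs)) ha

section

variable {V : Type*} [AddCommGroup V]

theorem E_tens (h2 : ∀ x : V, x + x = 0) (w n : ℕ) (g : ℕ → ℕ → V) (x : ℕ) {y : ℕ} (hy : y < 2 ^ w) :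
    ∀ k ≤ n, E w n g (tens w k x y) = ∑ i ∈ range k, if x.testBit i then ev w (g i) y else 0 := by
  intro k
  induction k with
  | zero => intro _; rw [tens, E_zero, Finset.range_zero, Finset.sum_empty]
  | succ k ih =>
    intro hk
    rw [tens, Finset.sum_range_succ, ← ih (by omega), bt_eq]
    cases x.testBit k with
    | true =>
      simp only [cond_true, if_true]
      change E w n g (tens w k x y ^^^ (y <<< (w * k))) = _
      rw [E_xor h2, E_shift w n g hy (by omega)]
    | false => simp

end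

end Cfsg.Agent.H248.L16
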